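import Groth.Agent.QCoh.Devissage
import Groth.Prelude.Def_FlatMod2
import Mathlib.CategoryTheory.Preadditive.Biproducts
import Mathlib.CategoryTheory.Idempotents.Basic
import Mathlib.Algebra.Category.ModuleCat.Biproducts

/-!
# Retracts of finite free modules and finite projective modules over global sections
-/

set_option linter.style.haveILetI false
set_option backward.isDefEq.respectTransparency false
set_option backward.isDefEq.respectTransparency.types false

universe u

open CategoryTheory CategoryTheory.Limits AlgebraicGeometry TopologicalSpace Opposite Groth.Agent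

namespace Groth.Agent.FreeEquiv

variable {X : Scheme.{u}}

/-- Global sections as a module over the global functions. -/
noncomputable def gamma (X : Scheme.{u}) : X.Modules ⥤ ModuleCat.{u} (Γ(X, ⊤)) :=
  SheafOfModules.evaluation X.ringCatSheaf (op ⊤)

instance : (gamma X).Additive where
  map_add := rfl

lemma hom_ext_one {N : X.Modules} (φ ψ : Coh.structureModule X ⟶ N)
    (h : φ.app ⊤ (1 : Γ(X, ⊤)) = ψ.app ⊤ (1 : Γ(X, ⊤))) : φ = ψ := by
  apply (SheafOfModules.unitHomEquiv N).injective
  apply Subtype.ext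
  funext W
  have key : ∀ χ : Coh.structureModule X ⟶ N,
      χ.app W.unop (1 : Γ(X, W.unop)) = N.presheaf.map (homOfLE le_top).op (χ.app ⊤ (1 : Γ(X, ⊤))) := fun χ => by
    rw [← QCoh.map_app_comm]
    congr 1
    exact (map_one (X.presheaf.map (homOfLE (le_top : W.unop ≤ ⊤)).op).hom).symm
  change φ.app W.unop (1 : Γ(X, W.unop)) = ψ.app W.unop (1 : Γ(X, W.unop))
  rw [key φ, key ψ, h]

/-- Morphisms from a module correspond to maps on global sections. -/
def Good (M : X.Modules) : Prop :=
  ∀ N : X.Modules, Function.Bijective fun φ : M ⟶ N => (gamma X).map φ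

lemma good_unit : Good (Coh.structureModule X) := by
  intro N
  refine ⟨fun φ ψ h => hom_ext_one φ ψ ?_, fun f => ⟨QCoh.homOfTop (show Γ(N, ⊤) from f.hom (1 : Γ(X, ⊤))), ?_⟩⟩
  · exact ConcreteCategory.congr_hom h (1 : Γ(X, ⊤))
  · refine ModuleCat.hom_ext (LinearMap.ext fun a => ?_)
    change (QCoh.homOfTop (show Γ(N, ⊤) from f.hom (1 : Γ(X, ⊤)))).app ⊤ a = f.hom a
    rw [QCoh.homOfTop_app]
    have h1 : N.presheaf.map (homOfLE (le_top : (⊤ : X.Opens) ≤ ⊤)).op (f.hom (1 : Γ(X, ⊤))) =
        f.hom (1 : Γ(X, ⊤)) := by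
      rw [show (homOfLE (le_top : (⊤ : X.Opens) ≤ ⊤)).op = 𝟙 _ from rfl, CategoryTheory.Functor.map_id]
      rfl
    erw [h1, ← f.hom.map_smul, smul_eq_mul, mul_one]

lemma good_retract {M F : X.Modules} (hF : Good F) (i : M ⟶ F) (r : F ⟶ M) (h : i ≫ r = 𝟙 M) : Good M := by
  intro N
  refine ⟨fun φ ψ e => ?_, fun f => ?_⟩
  · have := (hF N).1 (show (gamma X).map (r ≫ φ) = (gamma X).map (r ≫ ψ) by
      simp only at e
      rw [Functor.map_comp, Functor.map_comp, e])
    rw [← Category.id_comp φ, ← Category.id_comp ψ, ← h, Category.assoc, Category.assoc, this]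
  · obtain ⟨g, hg⟩ := (hF N).2 ((gamma X).map r ≫ f)
    refine ⟨i ≫ g, ?_⟩
    simp only at hg ⊢
    rw [Functor.map_comp, hg, ← Category.assoc, ← Functor.map_comp, h, CategoryTheory.Functor.map_id,
      Category.id_comp]

lemma good_free (n : ℕ) : Good (FlatMod.freeMod X n) := by
  intro N
  haveI : HasFiniteBiproducts X.Modules := Abelian.hasFiniteBiproducts
  haveI : PreservesFiniteCoproducts (gamma X) := ⟨fun k => by
    haveI := Functor.preservesFiniteBiproductsOfAdditive (gamma X)
    exact preservesCoproductsOfShape_of_preservesBiproductsOfShape _⟩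
  let c := isColimitOfPreserves (gamma X) (colimit.isColimit (Discrete.functor fun _ : Fin n => Coh.structureModule X))
  refine ⟨fun φ ψ e => Sigma.hom_ext _ _ fun j => ?_, fun f => ?_⟩
  · refine (good_unit N).1 ?_
    simp only at e ⊢
    rw [Functor.map_comp, Functor.map_comp, e]
  · choose g hg using fun j : Fin n =>
      (good_unit N).2 ((gamma X).map (Sigma.ι (fun _ : Fin n => Coh.structureModule X) j) ≫ f)
    refine ⟨Sigma.desc g, c.hom_ext fun ⟨j⟩ => ?_⟩
    change (gamma X).map (Sigma.ι _ j) ≫ (gamma X).map (Sigma.desc g) = (gamma X).map (Sigma.ι _ j) ≫ f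
    rw [← Functor.map_comp, Sigma.ι_desc]
    exact hg j

/-- The global sections of a finite free module. -/
theorem nonempty_linearEquiv_free (n : ℕ) :
    Nonempty (((gamma X).obj (FlatMod.freeMod X n) : Type u) ≃ₗ[Γ(X, ⊤)] (Fin n → Γ(X, ⊤))) := by
  haveI : HasFiniteBiproducts X.Modules := Abelian.hasFiniteBiproducts
  haveI := Functor.preservesFiniteBiproductsOfAdditive (gamma X)
  refine ⟨(((gamma X).mapIso (biproduct.isoCoproduct fun _ : Fin n => Coh.structureModule X).symm) ≪≫
    (gamma X).mapBiproduct _ ≪≫ ModuleCat.biproductIsoPi _).toLinearEquiv⟩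

/-- Retracts of finite free modules. -/
abbrev IsSummand (M : X.Modules) : Prop :=
  ∃ (n : ℕ) (i : M ⟶ FlatMod.freeMod X n) (r : FlatMod.freeMod X n ⟶ M), i ≫ r = 𝟙 M

/-- Finite projective modules. -/
abbrev IsFinProj (N : ModuleCat.{u} (Γ(X, ⊤))) : Prop :=
  Module.Finite (Γ(X, ⊤)) N ∧ Module.Projective (Γ(X, ⊤)) N

lemma isFinProj_gamma {M : X.Modules} (hM : IsSummand M) : IsFinProj ((gamma X).obj M) := by
  obtain ⟨n, i, r, h⟩ := hM
  obtain ⟨e⟩ := nonempty_linearEquiv_free (X := X) n
  haveI : Module.Finite (Γ(X, ⊤)) ((gamma X).obj (FlatMod.freeMod X n)) := Module.Finite.equiv e.symm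
  haveI : Module.Projective (Γ(X, ⊤)) ((gamma X).obj (FlatMod.freeMod X n)) := Module.Projective.of_equiv e.symm
  have h' : ((gamma X).map r).hom.comp ((gamma X).map i).hom = LinearMap.id := by
    have e1 := congrArg ModuleCat.Hom.hom
      (((gamma X).map_comp i r).symm.trans ((congrArg (gamma X).map h).trans ((gamma X).map_id M)))
    exact e1
  exact ⟨Module.Finite.of_surjective ((gamma X).map r).hom fun a => ⟨((gamma X).map i).hom a, LinearMap.congr_fun h' a⟩,
    Module.Projective.of_split ((gamma X).map i).hom ((gamma X).map r).hom h'⟩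

/-- The equivalence. -/
theorem nonempty_equiv :
    Nonempty (ObjectProperty.FullSubcategory (IsSummand (X := X)) ≌
      ObjectProperty.FullSubcategory (IsFinProj (X := X))) := by
  let G : ObjectProperty.FullSubcategory (IsSummand (X := X)) ⥤ ObjectProperty.FullSubcategory (IsFinProj (X := X)) :=
    ObjectProperty.lift _ (ObjectProperty.ι _ ⋙ gamma X) fun M => isFinProj_gamma M.2
  have hgood : ∀ M : ObjectProperty.FullSubcategory (IsSummand (X := X)), Good M.obj := fun M => by
    obtain ⟨n, i, r, h⟩ := M.2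
    exact good_retract (good_free n) i r h
  haveI : G.Faithful := ⟨fun {M N} f g h => ObjectProperty.hom_ext _ ((hgood M N.obj).1 (congrArg (fun z => z.hom) h))⟩
  haveI : G.Full := ⟨fun {M N} f => by
    obtain ⟨φ, hφ⟩ := (hgood M N.obj).2 f.hom
    exact ⟨ObjectProperty.homMk φ, ObjectProperty.hom_ext _ hφ⟩⟩
  haveI : G.EssSurj := ⟨fun N => by
    obtain ⟨hfin, hproj⟩ := N.2
    haveI := hfin
    haveI := hproj
    obtain ⟨n, p, hp⟩ := Module.Finite.exists_fin' (Γ(X, ⊤)) N.obj
    obtain ⟨s, hs⟩ := Module.projective_lifting_property p LinearMap.id hp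
    obtain ⟨e⟩ := nonempty_linearEquiv_free (X := X) n
    let F := FlatMod.freeMod X n
    let a : N.obj ⟶ (gamma X).obj F := ModuleCat.ofHom (e.symm.toLinearMap.comp s)
    let b : (gamma X).obj F ⟶ N.obj := ModuleCat.ofHom (p.comp e.toLinearMap)
    have hab : a ≫ b = 𝟙 _ := ModuleCat.hom_ext (LinearMap.ext fun x => by
      change p (e (e.symm (s x))) = x
      rw [e.apply_symm_apply]
      exact LinearMap.congr_fun hs x)
    obtain ⟨q, hq⟩ := (good_free n F).2 (b ≫ a)
    simp only at hq
    have hqq : q ≫ q = q := (good_free n F).1 (by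
      simp only
      rw [Functor.map_comp, hq, Category.assoc, reassoc_of% hab])
    obtain ⟨M, i, r, hir, hri⟩ := IsIdempotentComplete.idempotents_split F q hqq
    have hsum : IsSummand M := ⟨n, i, r, hir⟩
    have h1 : (gamma X).map r ≫ (gamma X).map i = b ≫ a := by rw [← Functor.map_comp, hri, hq]
    have h2 : (gamma X).map i ≫ (gamma X).map r = 𝟙 _ := by
      rw [← Functor.map_comp, hir, CategoryTheory.Functor.map_id]
    refine ⟨⟨M, hsum⟩, ⟨ObjectProperty.isoMk _ ⟨(gamma X).map i ≫ b, a ≫ (gamma X).map r, ?_, ?_⟩⟩⟩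
    · rw [Category.assoc, ← Category.assoc b, ← h1]
      simp only [Category.assoc, h2, Category.comp_id]
      rfl
    · rw [Category.assoc, ← Category.assoc ((gamma X).map r), h1, Category.assoc, hab, Category.comp_id, hab]⟩
  haveI : G.IsEquivalence := {}
  exact ⟨G.asEquivalence⟩

end Groth.Agent.FreeEquiv
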